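import Groth.Agent.Lib.RelSpecB.Basic
import Groth.Agent.Lib.QCGen12.Lift
import Groth.Agent.Lib.LimH13.SubAlgLimit
import Groth.Agent.Lib.LimH13.Exists
import Mathlib.AlgebraicGeometry.AffineTransitionLimit

/-!
Morphisms into a relative spectrum and colimits of quasi-coherent algebras.
-/

set_option autoImplicit false
set_option backward.isDefEq.respectTransparency false
set_option backward.isDefEq.respectTransparency.types false
set_option linter.style.haveILetI false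

universe u

open CategoryTheory CategoryTheory.Limits AlgebraicGeometry TopologicalSpace Opposite

noncomputable section

namespace Groth.Agent.SpecLim13

variable {S X : Scheme.{u}} {A B : RelSpec.QCAlg S}

theorem gammaAff_natural (φ : A ⟶ B) (U : S.Opens) (hU : IsAffineOpen U)
    (e : B.π ⁻¹ᵁ U ≤ RelSpec.QCAlg.specMap φ ⁻¹ᵁ (A.π ⁻¹ᵁ U)) :
    (RelSpec.QCAlg.specMap φ).appLE (A.π ⁻¹ᵁ U) (B.π ⁻¹ᵁ U) e ≫ B.gammaAff U hU =
      A.gammaAff U hU ≫ φ.hom.app (op U) := by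
  have h : B.ι U hU ≫ RelSpec.QCAlg.specMap φ = Spec.map (φ.hom.app (op U)) ≫ A.ι U hU :=
    RelSpec.QCAlg.ι_specMap U hU φ
  unfold RelSpec.QCAlg.gammaAff
  rw [Scheme.Hom.appLE_comp_appLE_assoc, Category.assoc, ← Scheme.ΓSpecIso_naturality]
  conv_rhs => rw [Scheme.Hom.appTop, ← Category.assoc, Scheme.Hom.app_eq_appLE,
    Scheme.Hom.appLE_comp_appLE]
  congr 2

theorem gammaMap_natural (φ : A ⟶ B) (U : S.Opens)
    (e : B.π ⁻¹ᵁ U ≤ RelSpec.QCAlg.specMap φ ⁻¹ᵁ (A.π ⁻¹ᵁ U)) :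
    (RelSpec.QCAlg.specMap φ).appLE (A.π ⁻¹ᵁ U) (B.π ⁻¹ᵁ U) e ≫ B.gammaMap.app (op U) =
      A.gammaMap.app (op U) ≫ φ.hom.app (op U) := by
  have hle : ∀ U : S.Opens, B.π ⁻¹ᵁ U ≤ RelSpec.QCAlg.specMap φ ⁻¹ᵁ (A.π ⁻¹ᵁ U) := fun U => by
    rw [← Scheme.Hom.comp_preimage, RelSpec.QCAlg.specMap_π]
  let ψ : A.π.base _* A.spec.presheaf ⟶ B.π.base _* B.spec.presheaf :=
    { app := fun W => (RelSpec.QCAlg.specMap φ).appLE (A.π ⁻¹ᵁ W.unop) (B.π ⁻¹ᵁ W.unop) (hle _)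
      naturality := fun W W' i => by
        change A.spec.presheaf.map _ ≫ _ = _ ≫ B.spec.presheaf.map _
        rw [Scheme.Hom.map_appLE, Scheme.Hom.appLE_map] }
  let G : TopCat.Sheaf CommRingCat.{u} S.carrier := ⟨B.presheaf, B.isSheaf⟩
  have : ψ ≫ B.gammaMap = A.gammaMap ≫ φ.hom := by
    apply (Functor.IsCoverDense.restrictHomEquivHom (G := Scheme.AffineZariskiSite.toOpensFunctor S)
      (K := Opens.grothendieckTopology S) (ℱ := A.π.base _* A.spec.presheaf) (ℱ' := G)).symm.injective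
    ext V : 2
    change (RelSpec.QCAlg.specMap φ).appLE _ _ _ ≫ B.gammaMap.app (op V.unop.1) =
      A.gammaMap.app (op V.unop.1) ≫ φ.hom.app (op V.unop.1)
    rw [B.gammaMap_app V.unop.1 V.unop.2, A.gammaMap_app V.unop.1 V.unop.2]
    exact gammaAff_natural φ _ V.unop.2 _
  exact NatTrans.congr_app this (op U)

variable (A) in
/-- The map of algebras attached to a morphism to the relative spectrum. -/
def omega {f : X ⟶ S} (g : X ⟶ A.spec) (h : g ≫ A.π = f) : A.presheaf ⟶ f.base _* X.presheaf :=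
  RelSpecB.gammaInv A ≫
    { app := fun U => g.appLE (A.π ⁻¹ᵁ U.unop) (f ⁻¹ᵁ U.unop)
        (by rw [← Scheme.Hom.comp_preimage, h])
      naturality := fun U V i => by
        change A.spec.presheaf.map _ ≫ _ = _ ≫ X.presheaf.map _
        rw [Scheme.Hom.map_appLE, Scheme.Hom.appLE_map] }

theorem str_omega {f : X ⟶ S} (g : X ⟶ A.spec) (h : g ≫ A.π = f) : A.str ≫ omega A g h = f.c := by
  apply NatTrans.ext
  funext U
  have h2 : A.str.app U ≫ (RelSpecB.gammaInv A).app U = A.π.app U.unop :=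
    NatTrans.congr_app (RelSpecB.str_isoPush A) U
  change A.str.app U ≫ (RelSpecB.gammaInv A).app U ≫ g.appLE _ _ _ = f.app U.unop
  rw [reassoc_of% h2]
  subst h
  rw [Scheme.Hom.app_eq_appLE, Scheme.Hom.appLE_comp_appLE, Scheme.Hom.app_eq_appLE]

theorem omega_natural {f : X ⟶ S} (φ : A ⟶ B) (g : X ⟶ B.spec) (h : g ≫ B.π = f)
    (h' : (g ≫ RelSpec.QCAlg.specMap φ) ≫ A.π = f) :
    φ.hom ≫ omega B g h = omega A (g ≫ RelSpec.QCAlg.specMap φ) h' := by
  apply NatTrans.ext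
  funext U
  have e1 : B.π ⁻¹ᵁ U.unop ≤ RelSpec.QCAlg.specMap φ ⁻¹ᵁ (A.π ⁻¹ᵁ U.unop) := by
    rw [← Scheme.Hom.comp_preimage, RelSpec.QCAlg.specMap_π]
  have hA : (RelSpecB.gammaInv A).app U ≫ A.gammaMap.app U = 𝟙 _ :=
    NatTrans.congr_app (RelSpecB.gammaInv_gammaMap A) U
  have hA' : A.gammaMap.app U ≫ (RelSpecB.gammaInv A).app U = 𝟙 _ :=
    NatTrans.congr_app (RelSpecB.gammaMap_gammaInv A) U
  have hB : B.gammaMap.app U ≫ (RelSpecB.gammaInv B).app U = 𝟙 _ :=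
    NatTrans.congr_app (RelSpecB.gammaMap_gammaInv B) U
  have key : φ.hom.app U ≫ (RelSpecB.gammaInv B).app U =
      (RelSpecB.gammaInv A).app U ≫ (RelSpec.QCAlg.specMap φ).appLE (A.π ⁻¹ᵁ U.unop) (B.π ⁻¹ᵁ U.unop) e1 := by
    calc _ = ((RelSpecB.gammaInv A).app U ≫ A.gammaMap.app U) ≫ φ.hom.app U ≫ (RelSpecB.gammaInv B).app U := by
            rw [hA]; exact (Category.id_comp _).symm
      _ = (RelSpecB.gammaInv A).app U ≫ ((RelSpec.QCAlg.specMap φ).appLE (A.π ⁻¹ᵁ U.unop) (B.π ⁻¹ᵁ U.unop) e1 ≫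
            B.gammaMap.app U) ≫ (RelSpecB.gammaInv B).app U := by
            rw [gammaMap_natural φ U.unop e1]; simp only [Category.assoc]
      _ = _ := by
            rw [Category.assoc, hB]; exact congrArg _ (Category.comp_id _)
  change φ.hom.app U ≫ (RelSpecB.gammaInv B).app U ≫ g.appLE _ _ _ = (RelSpecB.gammaInv A).app U ≫ _
  rw [reassoc_of% key]
  exact congrArg _ (Scheme.Hom.appLE_comp_appLE g (RelSpec.QCAlg.specMap φ) _ _ _ _ _)

theorem lift_omega {f : X ⟶ S} (g : X ⟶ A.spec) (h : g ≫ A.π = f) :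
    QCGen12.lift A f (omega A g h) = g := by
  refine Scheme.Cover.hom_ext (X.openCoverOfIsOpenCover (fun U : S.affineOpens => f ⁻¹ᵁ U.1)
    (.comap (iSup_affineOpens_eq_top S) f.base.1)) _ _ fun U => ?_
  change (f ⁻¹ᵁ U.1).ι ≫ QCGen12.lift A f (omega A g h) = (f ⁻¹ᵁ U.1).ι ≫ g
  rw [QCGen12.ι_lift A f _ U.1 U.2]
  haveI := RelSpecB.isIso_gammaAff A U.1 U.2
  have hinv : (RelSpecB.gammaInv A).app (op U.1) = inv (A.gammaAff U.1 U.2) := by
    apply IsIso.eq_inv_of_hom_inv_id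
    rw [← A.gammaMap_app U.1 U.2]
    exact NatTrans.congr_app (RelSpecB.gammaMap_gammaInv A) (op U.1)
  have hr : Set.range ((f ⁻¹ᵁ U.1).ι ≫ g) ⊆ Set.range (A.ι U.1 U.2) := by
    rintro _ ⟨z, rfl⟩
    have hz : g ((f ⁻¹ᵁ U.1).ι z) ∈ A.π ⁻¹ᵁ U.1 := by
      change (f ⁻¹ᵁ U.1).ι z ∈ g ⁻¹ᵁ (A.π ⁻¹ᵁ U.1)
      rw [← Scheme.Hom.comp_preimage, h]
      exact z.2
    rw [A.π_preimage U.1 U.2] at hz
    exact hz
  let k := IsOpenImmersion.lift (A.ι U.1 U.2) ((f ⁻¹ᵁ U.1).ι ≫ g) hr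
  have hk : k ≫ A.ι U.1 U.2 = (f ⁻¹ᵁ U.1).ι ≫ g := IsOpenImmersion.lift_fac ..
  rw [← hk, ← Category.assoc (f ⁻¹ᵁ U.1).toSpecΓ]
  congr 1
  apply ext_to_Spec
  change (Scheme.ΓSpecIso _).inv ≫ ((f ⁻¹ᵁ U.1).toSpecΓ ≫ Spec.map ((omega A g h).app (op U.1))).appTop =
    (Scheme.ΓSpecIso _).inv ≫ k.appTop
  rw [Scheme.Hom.comp_appTop, ← Scheme.ΓSpecIso_inv_naturality_assoc]
  have hom : (omega A g h).app (op U.1) = (RelSpecB.gammaInv A).app (op U.1) ≫
      g.appLE (A.π ⁻¹ᵁ U.1) (f ⁻¹ᵁ U.1) (by rw [← Scheme.Hom.comp_preimage, h]) := rfl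
  erw [hom, Category.assoc, hinv, IsIso.inv_comp_eq]
  unfold RelSpec.QCAlg.gammaAff
  rw [Category.assoc, Iso.hom_inv_id_assoc, Scheme.Opens.toSpecΓ_appTop, Iso.inv_hom_id_assoc]
  rw [Scheme.Hom.appTop, Scheme.Hom.app_eq_appLE, Scheme.Hom.appLE_comp_appLE]
  simp only [hk]
  refine Eq.trans ?_ (Scheme.Hom.appLE_comp_appLE (f ⁻¹ᵁ U.1).ι g (A.π ⁻¹ᵁ U.1) (f ⁻¹ᵁ U.1) ⊤
    (by rw [← Scheme.Hom.comp_preimage, h]) (by simp))
  congr 1
  rw [Scheme.Opens.ι_appLE]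
  rfl

theorem lift_natural {f : X ⟶ S} (φ : A ⟶ B) (ω : B.presheaf ⟶ f.base _* X.presheaf) :
    QCGen12.lift B f ω ≫ RelSpec.QCAlg.specMap φ = QCGen12.lift A f (φ.hom ≫ ω) := by
  refine Scheme.Cover.hom_ext (X.openCoverOfIsOpenCover (fun U : S.affineOpens => f ⁻¹ᵁ U.1)
    (.comap (iSup_affineOpens_eq_top S) f.base.1)) _ _ fun U => ?_
  change (f ⁻¹ᵁ U.1).ι ≫ QCGen12.lift B f ω ≫ RelSpec.QCAlg.specMap φ = (f ⁻¹ᵁ U.1).ι ≫ _
  rw [reassoc_of% (QCGen12.ι_lift B f ω U.1 U.2), RelSpec.QCAlg.ι_specMap, QCGen12.ι_lift A f _ U.1 U.2,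
    NatTrans.comp_app, Spec.map_comp, Category.assoc]

variable {J : Type u} [SmallCategory J] [IsFiltered J] (F : J ⥤ RelSpec.QCAlg S)

/-- The system of relative spectra. -/
def diag : Jᵒᵖ ⥤ Scheme.{u} where
  obj j := (F.obj j.unop).spec
  map φ := RelSpec.QCAlg.specMap (F.map φ.unop)
  map_id j := by rw [unop_id, F.map_id, LimH13.SubAlg.specMap_id]
  map_comp φ ψ := by rw [unop_comp, F.map_comp, LimH13.SubAlg.specMap_comp]

/-- The cone of relative spectra of a cocone. -/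
def coneOf (c : Cocone F) : Cone (diag F) where
  pt := c.pt.spec
  π :=
    { app := fun j => RelSpec.QCAlg.specMap (c.ι.app j.unop)
      naturality := fun i j φ => by
        refine (Category.id_comp _).trans ?_
        refine Eq.trans ?_ (LimH13.SubAlg.specMap_comp _ _)
        exact congrArg RelSpec.QCAlg.specMap (c.w φ.unop).symm }

theorem exists_isLimit {c : Cocone F} (hc : IsColimit c) : Nonempty (IsLimit (coneOf F c)) := by
  haveI : ∀ (i j : Jᵒᵖ) (φ : i ⟶ j), IsAffineHom ((diag F).map φ) := fun i j φ =>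
    LimH13.SubAlg.isAffineHom_specMap (F.map φ.unop)
  haveI : HasLimit (diag F) := LimH13.hasLimit_of_isAffineHom (diag F)
  obtain ⟨j₀⟩ := IsFiltered.nonempty (C := J)
  let L := limit (diag F)
  let p : ∀ j : J, L ⟶ (F.obj j).spec := fun j => limit.π (diag F) (op j)
  haveI : IsAffineHom (p j₀) := AlgebraicGeometry.isAffineHom_π_app (diag F) _ (limit.isLimit (diag F)) (op j₀)
  let fL : L ⟶ S := p j₀ ≫ (F.obj j₀).π
  have hp : ∀ j, p j ≫ (F.obj j).π = fL := by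
    intro j
    let m := IsFiltered.max j j₀
    change limit.π (diag F) (op j) ≫ _ = limit.π (diag F) (op j₀) ≫ _
    rw [← limit.w (diag F) (IsFiltered.leftToMax j j₀).op, ← limit.w (diag F) (IsFiltered.rightToMax j j₀).op,
      Category.assoc, Category.assoc]
    exact congrArg _ ((RelSpec.QCAlg.specMap_π _).trans (RelSpec.QCAlg.specMap_π _).symm)
  let B := RelSpec.QCAlg.directImage fL
  let cB : Cocone F :=
    { pt := B
      ι :=
        { app := fun j => ⟨omega (F.obj j) (p j) (hp j), str_omega _ _⟩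
          naturality := fun i j φ => by
            refine Eq.trans ?_ (Category.comp_id _).symm
            ext1
            change (F.map φ).hom ≫ omega (F.obj j) (p j) (hp j) = omega (F.obj i) (p i) (hp i)
            rw [omega_natural (F.map φ) (p j) (hp j) (by rw [Category.assoc, RelSpec.QCAlg.specMap_π, hp])]
            congr 1
            exact limit.w (diag F) φ.op } }
  let u := hc.desc cB
  let k : L ⟶ c.pt.spec := QCGen12.lift c.pt fL u.hom
  have hk : ∀ j, k ≫ RelSpec.QCAlg.specMap (c.ι.app j) = p j := by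
    intro j
    change QCGen12.lift c.pt fL u.hom ≫ _ = _
    rw [lift_natural]
    have : (c.ι.app j).hom ≫ u.hom = omega (F.obj j) (p j) (hp j) :=
      congrArg RelSpec.QCAlg.Hom.hom (hc.fac cB j)
    rw [this, lift_omega]
  let m : c.pt.spec ⟶ L := limit.lift (diag F) (coneOf F c)
  have hkm : k ≫ m = 𝟙 L := by
    refine limit.hom_ext fun j => ?_
    rw [Category.assoc, limit.lift_π, Category.id_comp]
    exact hk j.unop
  have he : ∀ j, (m ≫ k) ≫ RelSpec.QCAlg.specMap (c.ι.app j) = RelSpec.QCAlg.specMap (c.ι.app j) := by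
    intro j
    rw [Category.assoc, hk]
    exact limit.lift_π (coneOf F c) (op j)
  have hmk : m ≫ k = 𝟙 _ := by
    have h1 : (m ≫ k) ≫ c.pt.π = c.pt.π := by
      have h0 := RelSpec.QCAlg.specMap_π (A := F.obj j₀) (B := c.pt) (c.ι.app j₀)
      rw [← h0, ← Category.assoc, he]
    have h2 : 𝟙 c.pt.spec ≫ c.pt.π = c.pt.π := Category.id_comp _
    let B' := RelSpec.QCAlg.directImage c.pt.π
    let a₁ : c.pt ⟶ B' := ⟨omega c.pt (m ≫ k) h1, str_omega _ _⟩
    let a₂ : c.pt ⟶ B' := ⟨omega c.pt (𝟙 _) h2, str_omega _ _⟩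
    have : a₁ = a₂ := hc.hom_ext fun j => by
      ext1
      change (c.ι.app j).hom ≫ omega c.pt (m ≫ k) h1 = (c.ι.app j).hom ≫ omega c.pt (𝟙 _) h2
      rw [omega_natural (A := F.obj j) (B := c.pt) (c.ι.app j) _ h1 (by rw [Category.assoc, RelSpec.QCAlg.specMap_π, h1]),
        omega_natural (A := F.obj j) (B := c.pt) (c.ι.app j) _ h2 (by rw [Category.assoc, RelSpec.QCAlg.specMap_π, h2])]
      congr 1
      rw [he, Category.id_comp]
    have h3 : omega c.pt (m ≫ k) h1 = omega c.pt (𝟙 _) h2 := congrArg RelSpec.QCAlg.Hom.hom this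
    rw [← lift_omega (m ≫ k) h1, h3, lift_omega]
  exact ⟨IsLimit.ofIsoLimit (limit.isLimit (diag F))
    (Cone.ext ⟨k, m, hkm, hmk⟩ fun j => (hk j.unop).symm)⟩

end Groth.Agent.SpecLim13
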